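import Mathlib
import Cfsg.Agent.H662.Jordan
import Cfsg.Agent.H348.Lift
import Cfsg.Agent.H717.Rep
import Cfsg.Agent.FastGrp
import Cfsg.Agent.Prune
set_option linter.all false
prune_inst 0x7f00000000000000000000000000000000000000000000000000000000000000000000000000000000000000000000000000000000000000000000000000000000000000000000000000000000000000003ffe7673fffffffffffff7ffffffbeffbdf7ffffff
open scoped Cfsg.Agent.FastGrp

-- part: H170/RV/T60
section
/-!
# The 60 degree theorem (helper170)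

`V` a complex inner product space, `G` a finite group of isometries, `S ∈ G` with `2 Re ⟨Sv,v⟩ ≥ |v|²` for all `v`
(all eigenvalues within 60 degrees of 1), `T ∈ G` with `Re ⟨Tv,v⟩ > 0` for all `v ≠ 0`. Then `T` leaves invariant the
fixed space of `S`.

Consequence (`cube_comm`): if `t`, `t'` are elements of a finite group with a faithful complex representation in which
both are killed by `(X - 1)(X² - X + 1)` then `t³` commutes with `t'`.
-/

set_option autoImplicit false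
set_option linter.unusedSectionVars false

namespace Cfsg.Agent.H170.RV

open Module

section unitary

variable {V : Type*} [NormedAddCommGroup V] [InnerProductSpace ℂ V] [FiniteDimensional ℂ V]
  {G : Type*} [Group G] [Finite G] {ρ : Representation ℂ G V}

theorem rmul (ρ : Representation ℂ G V) (g h : G) (v : V) : ρ (g * h) v = ρ g (ρ h v) := by
  rw [map_mul]; rfl

theorem rone (ρ : Representation ℂ G V) (v : V) : ρ 1 v = v := by
  rw [map_one]; rfl

/-- the sequence -/
def seq (S T : G) : ℕ → G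
  | 0 => T
  | k + 1 => (seq S T k)⁻¹ * S * seq S T k

/-- **the 60 degree theorem** -/
theorem t60 (hρ : ∀ g u v, inner ℂ (ρ g u) (ρ g v) = inner ℂ u v) {S T : G}
    (hS : ∀ v, ‖v‖ ^ 2 / 2 ≤ (inner ℂ (ρ S v) v).re) (hT : ∀ v, v ≠ 0 → 0 < (inner ℂ (ρ T v) v).re)
    {v : V} (hv : ρ S v = v) : ρ S (ρ T v) = ρ T v := by
  classical
  have hnorm : ∀ g v, ‖ρ g v‖ = ‖v‖ := by
    intro g v
    have h1 : ‖ρ g v‖ ^ 2 = ‖v‖ ^ 2 := by
      rw [← inner_self_eq_norm_sq (𝕜 := ℂ), ← inner_self_eq_norm_sq (𝕜 := ℂ), hρ]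
    exact (sq_eq_sq₀ (norm_nonneg _) (norm_nonneg _)).mp h1
  set x := seq S T with hx
  have hx1 : ∀ k, x (k + 1) = (x k)⁻¹ * S * x k := fun k => rfl
  -- the recursion for the forms
  have hrec : ∀ k w, inner ℂ (ρ (x (k + 1)) w) w = inner ℂ (ρ S (ρ (x k) w)) (ρ (x k) w) := by
    intro k w
    have h1 : ρ (x k) (ρ (x (k + 1)) w) = ρ S (ρ (x k) w) := by
      rw [← rmul, ← rmul, hx1]
      congr 2
      group
    rw [← h1, hρ]
  have hpos : ∀ k w, w ≠ 0 → 0 < (inner ℂ (ρ (x k) w) w).re := by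
    intro k w hw
    rcases k with _ | k
    · exact hT w hw
    · rw [hrec]
      refine lt_of_lt_of_le ?_ (hS _)
      rw [hnorm]
      have := norm_pos_iff.mpr hw
      positivity
  -- the ascent
  let K : Submodule ℂ V := LinearMap.ker (ρ S - 1)
  have hK : ∀ w, w ∈ K ↔ ρ S w = w := by
    intro w
    rw [LinearMap.mem_ker, LinearMap.sub_apply, sub_eq_zero]
    rfl
  -- the main estimate
  have hest : ∀ k (w : V), w ∈ K → ‖w‖ = 1 → ∃ a b : V, a ∈ K ∧ ρ (x k) w = a + b ∧ ‖a‖ ^ 2 + ‖b‖ ^ 2 = 1 ∧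
      ‖inner ℂ (ρ (x k) w) w‖ ≤ ‖a‖ ∧ (1 + ‖a‖ ^ 2) / 2 ≤ (inner ℂ (ρ (x (k + 1)) w) w).re := by
    intro k w hw hw1
    set u := ρ (x k) w with hu
    set a := K.starProjection u with ha
    have haK : a ∈ K := Submodule.starProjection_apply_mem _ _
    have hbK : u - a ∈ Kᗮ := Submodule.sub_starProjection_mem_orthogonal _
    have hab : inner ℂ a (u - a) = 0 := (Submodule.mem_orthogonal _ _).mp hbK _ haK
    have hba : inner ℂ (u - a) a = 0 := by rw [← inner_conj_symm, hab, map_zero]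
    have hn : ‖a‖ ^ 2 + ‖u - a‖ ^ 2 = 1 := by
      have h1 : ‖a + (u - a)‖ * ‖a + (u - a)‖ = ‖a‖ * ‖a‖ + ‖u - a‖ * ‖u - a‖ :=
        norm_add_sq_eq_norm_sq_add_norm_sq_of_inner_eq_zero _ _ hab
      rw [add_sub_cancel, hu, hnorm, hw1] at h1
      linarith only [h1]
    refine ⟨a, u - a, haK, by abel, hn, ?_, ?_⟩
    · have h1 : inner ℂ u w = inner ℂ a w := by
        have h2 : inner ℂ (u - a) w = 0 := by
          rw [← inner_conj_symm, (Submodule.mem_orthogonal _ _).mp hbK _ hw, map_zero]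
        rw [inner_sub_left, sub_eq_zero] at h2
        exact h2
      rw [h1]
      have := norm_inner_le_norm (𝕜 := ℂ) a w
      rwa [hw1, mul_one] at this
    · rw [hrec, ← hu]
      have hSa : ρ S a = a := (hK a).mp haK
      have h1 : inner ℂ (ρ S u) u = inner ℂ a a + inner ℂ (ρ S (u - a)) (u - a) := by
        have h2 : u = a + (u - a) := by abel
        have h3 : inner ℂ (ρ S (u - a)) a = 0 := by
          have := hρ S (u - a) a
          rw [hSa] at this
          rw [this, hba]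
        have h4 : inner ℂ (ρ S u) u = inner ℂ (ρ S (a + (u - a))) (a + (u - a)) := by rw [← h2]
        rw [h4, map_add, hSa, inner_add_left, inner_add_right, inner_add_right, hab, h3]
        ring
      rw [h1, Complex.add_re]
      have h2 := hS (u - a)
      have h3 : (inner ℂ a a : ℂ).re = ‖a‖ ^ 2 := by
        rw [← inner_self_eq_norm_sq (𝕜 := ℂ)]
        rfl
      rw [h3]
      linarith
  -- monotonicity
  have hmono : ∀ w : V, w ∈ K → ‖w‖ = 1 → ∀ k, ‖inner ℂ (ρ (x k) w) w‖ ≤ ‖inner ℂ (ρ (x (k + 1)) w) w‖ ∧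
      (‖inner ℂ (ρ (x k) w) w‖ = ‖inner ℂ (ρ (x (k + 1)) w) w‖ → ρ (x k) w ∈ K) := by
    intro w hw hw1 k
    obtain ⟨a, b, haK, hab, hn, h1, h2⟩ := hest k w hw hw1
    have h3 : (inner ℂ (ρ (x (k + 1)) w) w : ℂ).re ≤ ‖inner ℂ (ρ (x (k + 1)) w) w‖ := Complex.re_le_norm _
    have ha0 := norm_nonneg a
    have hb0 := norm_nonneg b
    refine ⟨by linarith only [h1, h2, h3, sq_nonneg (‖a‖ - 1)], fun heq => ?_⟩
    have h4 : ‖a‖ = 1 := by nlinarith only [h1, h2, h3, heq, sq_nonneg (‖a‖ - 1)]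
    have h5 : ‖b‖ = 0 := by
      rw [h4] at hn
      nlinarith only [hn]
    rw [hab, norm_eq_zero.mp h5, add_zero]
    exact haK
  -- a repetition
  obtain ⟨i, hi⟩ : ∃ i, ∀ w ∈ K, ρ (x i) w ∈ K := by
    obtain ⟨i, j, hij, hxij⟩ : ∃ i j, i < j ∧ x i = x j := by
      have hni : ¬ Function.Injective x := not_injective_infinite_finite x
      rw [Function.Injective] at hni
      push Not at hni
      obtain ⟨i, j, h1, h2⟩ := hni
      rcases lt_or_gt_of_ne h2 with h | h
      · exact ⟨i, j, h, h1⟩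
      · exact ⟨j, i, h, h1.symm⟩
    refine ⟨i, fun w hw => ?_⟩
    by_cases hw0 : w = 0
    · rw [hw0, map_zero]
      exact K.zero_mem
    have hn0 : ‖w‖ ≠ 0 := norm_ne_zero_iff.mpr hw0
    set w' : V := ((‖w‖⁻¹ : ℝ) : ℂ) • w with hw'
    have hw'K : w' ∈ K := K.smul_mem _ hw
    have hw'1 : ‖w'‖ = 1 := by
      rw [hw', norm_smul, Complex.norm_real, norm_inv, norm_norm, inv_mul_cancel₀ hn0]
    have hm : Monotone fun k => ‖inner ℂ (ρ (x k) w') w'‖ := monotone_nat_of_le_succ fun k => (hmono w' hw'K hw'1 k).1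
    have h1 : ‖inner ℂ (ρ (x i) w') w'‖ = ‖inner ℂ (ρ (x (i + 1)) w') w'‖ := by
      refine le_antisymm (hm (Nat.le_succ i)) ?_
      have h2 : ‖inner ℂ (ρ (x (i + 1)) w') w'‖ ≤ ‖inner ℂ (ρ (x j) w') w'‖ := hm hij
      rwa [← hxij] at h2
    have h2 := (hmono w' hw'K hw'1 i).2 h1
    have h3 : w = ((‖w‖ : ℝ) : ℂ) • w' := by
      rw [hw', smul_smul, ← Complex.ofReal_mul, mul_inv_cancel₀ hn0, Complex.ofReal_one, one_smul]
    rw [h3, map_smul]
    exact K.smul_mem _ h2
  -- the descent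
  have hdesc : ∀ k, (∀ w ∈ K, ρ (x (k + 1)) w ∈ K) → ∀ w ∈ K, ρ (x k) w ∈ K := by
    intro k hk w hw
    set u := ρ (x (k + 1)) w - w with hu
    have huK : u ∈ K := K.sub_mem (hk w hw) hw
    have h1 : ρ (x k) u = ρ S (ρ (x k) w) - ρ (x k) w := by
      rw [hu, map_sub, ← rmul, ← rmul, hx1]
      congr 3
      group
    have h2 : inner ℂ (ρ (x k) u) u = (0 : ℂ) := by
      rw [h1, inner_sub_left, sub_eq_zero]
      have h3 := hρ S (ρ (x k) w) u
      rw [(hK u).mp huK] at h3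
      exact h3
    have h3 : u = 0 := by
      by_contra hne
      have := hpos k u hne
      rw [h2] at this
      exact lt_irrefl _ this
    rw [hK]
    rw [h3, map_zero] at h1
    exact (sub_eq_zero.mp h1.symm)
  have hall : ∀ n, n ≤ i → ∀ w ∈ K, ρ (x (i - n)) w ∈ K := by
    intro n
    induction n with
    | zero => intro _; simpa only [_root_.tsub_zero] using hi
    | succ n ih =>
      intro hn
      refine hdesc (i - (n + 1)) ?_
      have h1 : i - (n + 1) + 1 = i - n := by omega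
      rw [h1]
      exact ih (by omega)
  have h0 := hall i le_rfl v ((hK v).mpr hv)
  rw [Nat.sub_self] at h0
  exact (hK _).mp h0

/-- the polynomial condition implies the condition on the numerical range -/
theorem re_of_poly (hρ : ∀ g u v, inner ℂ (ρ g u) (ρ g v) = inner ℂ u v) {S : G}
    (hp : ∀ v, ρ S (ρ S (ρ S v)) - (2 : ℂ) • ρ S (ρ S v) + (2 : ℂ) • ρ S v - v = 0) (v : V) :
    ‖v‖ ^ 2 / 2 ≤ (inner ℂ (ρ S v) v).re := by
  set a := ρ S (ρ S v) - ρ S v + v with ha
  have hSa : ρ S a = a := by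
    have h2 := hp v
    have h3 : ρ S (ρ S (ρ S v)) = v - (2 : ℂ) • ρ S v + (2 : ℂ) • ρ S (ρ S v) := by
      rw [← sub_eq_zero, ← h2]
      abel
    rw [ha, map_add, map_sub, h3, two_smul, two_smul]
    abel
  have h1 : inner ℂ a (ρ S v) = (inner ℂ a v : ℂ) := by
    have := hρ S a v
    rwa [hSa] at this
  have h2 : inner ℂ a (ρ S (ρ S v)) = (inner ℂ a v : ℂ) := by
    have := hρ S a (ρ S v)
    rwa [hSa, h1] at this
  have h3 : (inner ℂ a a : ℂ) = inner ℂ a v := by
    calc (inner ℂ a a : ℂ) = inner ℂ a (ρ S (ρ S v) - ρ S v + v) := by rw [← ha]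
      _ = inner ℂ a v := by rw [inner_add_right, inner_sub_right, h1, h2]; ring
  have h4 : (inner ℂ a v : ℂ) = inner ℂ (ρ S (ρ S v)) v - inner ℂ (ρ S v) v + inner ℂ v v := by
    rw [ha, inner_add_left, inner_sub_left]
  have h5 : (inner ℂ (ρ S (ρ S v)) v : ℂ) - 2 * inner ℂ (ρ S v) v + 2 * inner ℂ v v - inner ℂ v (ρ S v) = 0 := by
    have h6 : (inner ℂ (ρ S (ρ S (ρ S v)) - (2 : ℂ) • ρ S (ρ S v) + (2 : ℂ) • ρ S v - v) (ρ S v) : ℂ) = 0 := by
      rw [hp v, inner_zero_left]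
    rw [inner_sub_left, inner_add_left, inner_sub_left, inner_smul_left, inner_smul_left, hρ, hρ, hρ, Complex.conj_ofNat] at h6
    exact h6
  have h7 : (inner ℂ v (ρ S v) : ℂ).re = (inner ℂ (ρ S v) v : ℂ).re := by
    rw [← inner_conj_symm, Complex.conj_re]
  have h8 : (inner ℂ a a : ℂ).re = ‖a‖ ^ 2 := by
    rw [← inner_self_eq_norm_sq (𝕜 := ℂ)]
    rfl
  have h9 : (inner ℂ v v : ℂ).re = ‖v‖ ^ 2 := by
    rw [← inner_self_eq_norm_sq (𝕜 := ℂ)]
    rfl
  have h10 := congrArg Complex.re h5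
  have h11 := congrArg Complex.re h4
  simp only [Complex.sub_re, Complex.add_re, Complex.mul_re, Complex.re_ofNat, Complex.im_ofNat, zero_mul, sub_zero,
    Complex.zero_re] at h10 h11
  rw [← h3, h8] at h11
  have := sq_nonneg ‖a‖
  rw [h7] at h10
  linarith

theorem cube_comm_aux (hρ : ∀ g u v, inner ℂ (ρ g u) (ρ g v) = inner ℂ u v)
    (hinj : Function.Injective ρ) {S T : G}
    (hS : ∀ v, ρ S (ρ S (ρ S v)) - (2 : ℂ) • ρ S (ρ S v) + (2 : ℂ) • ρ S v - v = 0)
    (hT : ∀ v, ρ T (ρ T (ρ T v)) - (2 : ℂ) • ρ T (ρ T v) + (2 : ℂ) • ρ T v - v = 0) :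
    S ^ 3 * T = T * S ^ 3 := by
  have h1 : ∀ v, ρ S v = v → ρ S (ρ T v) = ρ T v := fun v hv =>
    t60 hρ (re_of_poly hρ hS) (fun v hv => lt_of_lt_of_le (by have := norm_pos_iff.mpr hv; positivity)
      (re_of_poly hρ hT v)) hv
  -- the inverse of `T` too
  have hT' : ∀ v, ρ T⁻¹ (ρ T⁻¹ (ρ T⁻¹ v)) - (2 : ℂ) • ρ T⁻¹ (ρ T⁻¹ v) + (2 : ℂ) • ρ T⁻¹ v - v = 0 := by
    intro v
    have h2 := hT (ρ T⁻¹ (ρ T⁻¹ (ρ T⁻¹ v)))
    have h3 : ∀ w, ρ T (ρ T⁻¹ w) = w := fun w => by rw [← rmul, mul_inv_cancel, rone]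
    simp only [h3] at h2
    rw [← neg_eq_zero, ← h2]
    abel
  have h1' : ∀ v, ρ S v = v → ρ S (ρ T⁻¹ v) = ρ T⁻¹ v := fun v hv =>
    t60 hρ (re_of_poly hρ hS) (fun v hv => lt_of_lt_of_le (by have := norm_pos_iff.mpr hv; positivity)
      (re_of_poly hρ hT' v)) hv
  have hcube : ∀ v, ρ (S ^ 3) v = ρ S (ρ S (ρ S v)) := by
    intro v
    rw [pow_succ, pow_two, rmul, rmul]
  apply hinj
  apply LinearMap.ext
  intro v
  -- `v = a + b`
  have key : ∀ v, ρ (S ^ 3) v = (2 : ℂ) • (ρ S (ρ S v) - ρ S v + v) - v := by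
    intro v
    rw [hcube, ← sub_eq_zero, ← hS v, smul_add, smul_sub, two_smul, two_smul, two_smul]
    abel
  have hfix : ∀ v, ρ S (ρ S (ρ S v) - ρ S v + v) = ρ S (ρ S v) - ρ S v + v := by
    intro v
    rw [map_add, map_sub, ← sub_eq_zero, ← hS v, two_smul, two_smul]
    abel
  -- `P v := S² v - S v + v`; `P` is the projection to the fixed space, `T P v` is fixed, `P T (1 - P) v = 0`
  have hPfix : ∀ w, ρ S w = w → ρ S (ρ S w) - ρ S w + w = w := by
    intro w hw
    rw [hw, hw]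
    abel
  have hort : ∀ w, ρ S (ρ S w) - ρ S w + w = 0 → ρ S (ρ S (ρ T w)) - ρ S (ρ T w) + ρ T w = 0 := by
    intro w hw
    set a := ρ S (ρ S (ρ T w)) - ρ S (ρ T w) + ρ T w with ha
    have hSa : ρ S a = a := hfix _
    -- `⟨a, a⟩ = ⟨a, T w⟩ = ⟨T⁻¹ a, w⟩ = 0`
    have h2 : ∀ (c u : V), ρ S c = c → (inner ℂ c (ρ S u) : ℂ) = inner ℂ c u := by
      intro c u hc
      have := hρ S c u
      rwa [hc] at this
    have h3 : (inner ℂ a a : ℂ) = inner ℂ a (ρ T w) := by
      calc (inner ℂ a a : ℂ) = inner ℂ a (ρ S (ρ S (ρ T w)) - ρ S (ρ T w) + ρ T w) := by rw [← ha]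
        _ = inner ℂ a (ρ T w) := by rw [inner_add_right, inner_sub_right, h2 _ _ hSa, h2 _ _ hSa]; ring
    have h4 : (inner ℂ a (ρ T w) : ℂ) = inner ℂ (ρ T⁻¹ a) w := by
      rw [← hρ T (ρ T⁻¹ a) w, ← rmul, mul_inv_cancel, rone]
    have h5 : ρ S (ρ T⁻¹ a) = ρ T⁻¹ a := h1' a hSa
    have h6 : (inner ℂ (ρ T⁻¹ a) w : ℂ) = 0 := by
      have h7 : (inner ℂ (ρ T⁻¹ a) (ρ S (ρ S w) - ρ S w + w) : ℂ) = 0 := by rw [hw, inner_zero_right]
      rw [inner_add_right, inner_sub_right, h2 _ _ h5, h2 _ _ h5] at h7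
      simpa only [_root_.sub_self, _root_.zero_add] using h7
    rw [h4, h6] at h3
    exact inner_self_eq_zero.mp h3
  -- compute
  set p := ρ S (ρ S v) - ρ S v + v with hp
  have hpS : ρ S p = p := hfix v
  have hq : ρ S (ρ S (v - p)) - ρ S (v - p) + (v - p) = 0 := by
    have h8 := hPfix p hpS
    have h9 : ρ S (ρ S (v - p)) - ρ S (v - p) + (v - p) = (ρ S (ρ S v) - ρ S v + v) -
        (ρ S (ρ S p) - ρ S p + p) := by
      simp only [map_sub]
      abel
    rw [h9, h8, ← hp, sub_self]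
  have hTp : ρ S (ρ S (ρ T v)) - ρ S (ρ T v) + ρ T v = ρ T p := by
    have h8 := hort (v - p) hq
    have h9 := hPfix (ρ T p) (h1 p hpS)
    have h10 : ρ S (ρ S (ρ T v)) - ρ S (ρ T v) + ρ T v =
        (ρ S (ρ S (ρ T (v - p))) - ρ S (ρ T (v - p)) + ρ T (v - p)) +
        (ρ S (ρ S (ρ T p)) - ρ S (ρ T p) + ρ T p) := by
      simp only [map_sub]
      abel
    rw [h10, h8, h9, zero_add]
  rw [rmul, rmul, key, key, hTp, ← hp, map_sub, map_smul]

end unitary

/-- **the cubes commute**: `G` finite, `ρ` a faithful complex representation, `S`, `T` killed by `(X-1)(X²-X+1)`. -/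
theorem cube_comm {V : Type*} [AddCommGroup V] [Module ℂ V] [FiniteDimensional ℂ V] {G : Type*} [Group G] [Finite G]
    (ρ : Representation ℂ G V) (hinj : Function.Injective ρ) {S T : G}
    (hS : ∀ v, ρ S (ρ S (ρ S v)) - (2 : ℂ) • ρ S (ρ S v) + (2 : ℂ) • ρ S v - v = 0)
    (hT : ∀ v, ρ T (ρ T (ρ T v)) - (2 : ℂ) • ρ T (ρ T v) + (2 : ℂ) • ρ T v - v = 0) :
    S ^ 3 * T = T * S ^ 3 := by
  have hfin := Fintype.ofFinite G
  let i1 : NormedAddCommGroup V := (H662.Jordan.core ρ).toNormedAddCommGroup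
  let i2 : InnerProductSpace ℂ V := InnerProductSpace.ofCore (H662.Jordan.core ρ).toCore
  have hinv : ∀ (g : G) (v w : V), inner ℂ (ρ g v) (ρ g w) = inner ℂ v w := by
    intro g v w
    show ∑ h : G, _ = ∑ h : G, _
    refine Fintype.sum_equiv (Equiv.mulRight g) _ _ fun h => ?_
    rw [Equiv.coe_mulRight, map_mul, Module.End.mul_apply, Module.End.mul_apply]
  exact cube_comm_aux hinv hinj hS hT

end Cfsg.Agent.H170.RV
end

-- part: H170/RV/Lift
section
/-!
# Lifting modules of `p'`-groups to the complex numbers (helper170)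

`exists_complex`: a faithful module of a `p'`-group over a field of characteristic `p` gives a faithful complex
module; an element killed by an integral polynomial `f` in characteristic `p` is killed by `f` over `ℂ`, if `f` and `g`
are coprime modulo `p` and `X ^ m - 1` divides `f g`, `t ^ m = 1`.

`cube_comm_p`: the consequence of the 60 degree theorem in characteristic `p ≥ 5`.
-/

set_option autoImplicit false
set_option linter.unusedSectionVars false

namespace Cfsg.Agent.H170.RV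

open Module Polynomial

theorem eq_zero_of_pow_dvd {p : ℕ} [hp : Fact p.Prime] {x : ℤ_[p]} (h : ∀ k : ℕ, (p : ℤ_[p]) ^ k ∣ x) : x = 0 := by
  by_contra hne
  have h1 : FiniteMultiplicity (p : ℤ_[p]) x :=
    FiniteMultiplicity.of_not_isUnit PadicInt.prime_p.not_isUnit hne
  obtain ⟨n, hn⟩ := h1
  exact hn (h (n + 1))

/-- the polynomial relation lifts -/
theorem lift_poly {p : ℕ} [hp : Fact p.Prime] {n : ℕ} (A : Matrix (Fin n) (Fin n) ℤ_[p]) (f g u w : ℤ[X]) (c : ℤ)
    (hc : ¬ (p : ℤ) ∣ c) (huw : u * f + w * g = C c) (hfg : aeval A (f * g) = 0)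
    (hf : aeval (A.map (PadicInt.toZMod (p := p))) f = 0) : aeval A f = 0 := by
  set E := aeval A f with hE
  set U := aeval A u with hU
  have hunit : IsUnit ((c : ℤ) : ℤ_[p]) := by
    rw [PadicInt.isUnit_iff]
    by_contra hne
    have h1 : ‖((c : ℤ) : ℤ_[p])‖ < 1 := lt_of_le_of_ne (PadicInt.norm_le_one _) hne
    rw [PadicInt.norm_intCast_lt_one_iff] at h1
    exact hc h1
  obtain ⟨d, hd⟩ := hunit.exists_left_inv
  -- `c E = U E²`
  have h1 : ((c : ℤ) : ℤ_[p]) • E = U * (E * E) := by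
    have h2 : u * (f * f) = C c * f - w * (f * g) := by
      rw [← huw]
      ring
    have h3 := congrArg (aeval A) h2
    rw [map_mul, map_mul, map_sub, map_mul, map_mul, hfg, mul_zero, sub_zero, aeval_C] at h3
    rw [← hE, ← hU] at h3
    rw [h3]
    simp [Algebra.smul_def]
  have h2 : E = d • (U * (E * E)) := by
    rw [← h1, smul_smul, hd, one_smul]
  -- `E` is divisible by `p`
  have h3 : ∃ E1 : Matrix (Fin n) (Fin n) ℤ_[p], E = (p : ℤ_[p]) • E1 := by
    have h4 : E.map (PadicInt.toZMod (p := p)) = 0 := by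
      have h5 : ((PadicInt.toZMod (p := p)).mapMatrix : Matrix (Fin n) (Fin n) ℤ_[p] →+* _) (aeval A f) =
          aeval (A.map (PadicInt.toZMod (p := p))) f := by
        have h6 := Polynomial.map_aeval_eq_aeval_map
          (φ := RingHom.id ℤ) (ψ := ((PadicInt.toZMod (p := p)).mapMatrix : Matrix (Fin n) (Fin n) ℤ_[p] →+* _))
          (by ext; simp) f A
        rw [h6, Polynomial.map_id]
        rfl
      rw [hf] at h5
      exact h5
    have h5 : ∀ i j, ∃ y, E i j = (p : ℤ_[p]) * y := by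
      intro i j
      have h6 : PadicInt.toZMod (E i j) = 0 := congrFun (congrFun h4 i) j
      have h7 : E i j ∈ RingHom.ker (PadicInt.toZMod (p := p)) := h6
      rw [PadicInt.ker_toZMod, PadicInt.maximalIdeal_eq_span_p, Ideal.mem_span_singleton] at h7
      exact h7
    choose E1 hE1 using h5
    refine ⟨Matrix.of E1, ?_⟩
    ext i j
    rw [Matrix.smul_apply, Matrix.of_apply, smul_eq_mul, hE1]
  obtain ⟨E1, hE1⟩ := h3
  have h4 : ∀ k : ℕ, ∃ Ek : Matrix (Fin n) (Fin n) ℤ_[p], E = ((p : ℤ_[p]) ^ k) • Ek := by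
    intro k
    induction k with
    | zero => exact ⟨E, by rw [pow_zero, one_smul]⟩
    | succ k ih =>
      obtain ⟨Ek, hEk⟩ := ih
      refine ⟨d • (U * (Ek * E1)), ?_⟩
      calc E = d • (U * (E * E)) := h2
        _ = d • (U * ((((p : ℤ_[p]) ^ k) • Ek) * ((p : ℤ_[p]) • E1))) := by rw [← hEk, ← hE1]
        _ = ((p : ℤ_[p]) ^ (k + 1)) • d • (U * (Ek * E1)) := by
          rw [Matrix.smul_mul, Matrix.mul_smul, smul_smul, Matrix.mul_smul, Matrix.mul_smul, smul_smul, smul_smul,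
            pow_succ]
          congr 1
          ring
  ext i j
  refine eq_zero_of_pow_dvd fun k => ?_
  obtain ⟨Ek, hEk⟩ := h4 k
  exact ⟨Ek i j, by rw [hEk, Matrix.smul_apply, smul_eq_mul]⟩

/-- **lifting to the complex numbers** -/
theorem exists_complex {p : ℕ} [hp : Fact p.Prime] {F : Type*} [Field F] [CharP F p] {D : Type*} [Group D] [Finite D]
    {E : Type*} [AddCommGroup E] [Module F E] [Finite E] (ρ : Representation F D E) (hρ : Function.Injective ρ)
    (hc : ¬ p ∣ Nat.card D) : ∃ (n : ℕ) (ρ' : Representation ℂ D (Fin n → ℂ)), Function.Injective ρ' ∧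
      ∀ (t : D) (f g u w : ℤ[X]) (c : ℤ) (m : ℕ), ¬ (p : ℤ) ∣ c → u * f + w * g = C c → X ^ m - 1 ∣ f * g →
        t ^ m = 1 → aeval (ρ t) f = 0 → aeval (ρ' t) f = 0 := by
  classical
  have hpE : ∀ e : E, p • e = 0 := by
    intro e
    rw [← Nat.cast_smul_eq_nsmul F, CharP.cast_eq_zero, zero_smul]
  let _ : Module (ZMod p) E := AddCommGroup.zmodModule (n := p) hpE
  let θ : D →* Module.End (ZMod p) E :=
    { toFun := fun g => AddMonoidHom.toZModLinearMap p (ρ g).toAddMonoidHom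
      map_one' := by
        refine LinearMap.ext fun v => ?_
        show ρ 1 v = v
        rw [map_one]; rfl
      map_mul' := fun g g' => by
        refine LinearMap.ext fun v => ?_
        show ρ (g * g') v = ρ g (ρ g' v)
        rw [map_mul]; rfl }
  have : Module.Finite (ZMod p) E := Module.Finite.of_finite
  let n := finrank (ZMod p) E
  let b : Module.Basis (Fin n) (ZMod p) E := Module.finBasis (ZMod p) E
  let f : D →* Matrix (Fin n) (Fin n) (ZMod p) :=
    (LinearMap.toMatrixAlgEquiv b : Module.End (ZMod p) E ≃ₐ[ZMod p] _).toAlgHom.toRingHom.toMonoidHom.comp θ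
  have hfinj : Function.Injective f.toHomUnits := by
    intro a c hac
    have h2 : f a = f c := congrArg (fun x : GL (Fin n) (ZMod p) => (x : Matrix (Fin n) (Fin n) (ZMod p))) hac
    have h3 : θ a = θ c := (LinearMap.toMatrixAlgEquiv b).injective h2
    apply hρ
    apply LinearMap.ext
    intro e
    exact LinearMap.congr_fun h3 e
  have hcop : (Nat.card D).Coprime p := ((Nat.Prime.coprime_iff_not_dvd hp.out).2 hc).symm
  obtain ⟨τ, hτ⟩ := Cfsg.Agent.H348.Lift.exists_lift hcop f.toHomUnits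
  obtain ⟨ι, hι⟩ := Cfsg.Agent.H717.Rep.exists_padic_embedding p
  have hτi : Function.Injective τ := by
    intro a b hab
    apply hfinj
    rw [← hτ, ← hτ, hab]
  let h : D →* Matrix (Fin n) (Fin n) ℂ :=
    (ι.mapMatrix : Matrix (Fin n) (Fin n) ℤ_[p] →+* Matrix (Fin n) (Fin n) ℂ).toMonoidHom.comp
      ((Units.coeHom _).comp τ)
  have hh : Function.Injective h := by
    intro a b hab
    apply hτi
    apply Units.ext
    have h1 : ((τ a : GL (Fin n) ℤ_[p]) : Matrix (Fin n) (Fin n) ℤ_[p]).map ι =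
      ((τ b : GL (Fin n) ℤ_[p]) : Matrix (Fin n) (Fin n) ℤ_[p]).map ι := hab
    exact Matrix.map_injective hι h1
  refine ⟨n, (Matrix.toLinAlgEquiv' : Matrix (Fin n) (Fin n) ℂ ≃ₐ[ℂ] _).toAlgHom.toRingHom.toMonoidHom.comp h, ?_, ?_⟩
  · intro a b hab
    exact hh (Matrix.toLinAlgEquiv'.injective hab)
  · intro t f' g u w c m hc huw hdvd htm hft
    -- in `ZMod p`-matrices
    have h1 : aeval (θ t) f' = 0 := by
      apply LinearMap.ext
      intro v
      have h2 : ∀ q : ℤ[X], ∀ v : E, (aeval (θ t) q) v = (aeval (ρ t) q) v := by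
        intro q
        induction q using Polynomial.induction_on' with
        | add a b ha hb =>
          intro v
          rw [map_add, map_add, LinearMap.add_apply, LinearMap.add_apply, ha, hb]
        | monomial k a =>
          intro v
          rw [← C_mul_X_pow_eq_monomial, map_mul, map_mul, map_pow, map_pow, aeval_X, aeval_X, aeval_C, aeval_C]
          have h3 : ∀ k : ℕ, ∀ v : E, ((θ t) ^ k) v = ((ρ t) ^ k) v := by
            intro k
            induction k with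
            | zero => intro v; rfl
            | succ k ih =>
              intro v
              rw [pow_succ, pow_succ, Module.End.mul_apply, Module.End.mul_apply]
              exact ih _
          rw [Module.End.mul_apply, Module.End.mul_apply, h3]
          simp only [_root_.algebraMap_int_eq, _root_.eq_intCast, _root_.Module.End.intCast_apply]
      rw [h2, hft]
      rfl
    have h2 : aeval (f t) f' = 0 := by
      have h3 : f t = (LinearMap.toMatrixAlgEquiv b : Module.End (ZMod p) E ≃ₐ[ZMod p] _) (θ t) := rfl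
      have h4 := Polynomial.map_aeval_eq_aeval_map
        (φ := RingHom.id ℤ) (ψ := ((LinearMap.toMatrixAlgEquiv b : Module.End (ZMod p) E ≃ₐ[ZMod p] _) :
          Module.End (ZMod p) E →+* Matrix (Fin n) (Fin n) (ZMod p)))
        (by ext; simp) f' (θ t)
      rw [h1, map_zero, Polynomial.map_id] at h4
      exact h4.symm
    have h3 : aeval ((τ t : GL (Fin n) ℤ_[p]) : Matrix (Fin n) (Fin n) ℤ_[p]) f' = 0 := by
      refine lift_poly _ f' g u w c hc huw ?_ ?_
      · obtain ⟨q, hq⟩ := hdvd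
        have h4 : aeval ((τ t : GL (Fin n) ℤ_[p]) : Matrix (Fin n) (Fin n) ℤ_[p]) (X ^ m - 1 : ℤ[X]) = 0 := by
          rw [map_sub, map_pow, aeval_X, map_one, ← Units.val_pow_eq_pow_val, ← map_pow, htm, map_one, Units.val_one,
            sub_self]
        rw [hq, map_mul, h4, zero_mul]
      · have h4 : ((τ t : GL (Fin n) ℤ_[p]) : Matrix (Fin n) (Fin n) ℤ_[p]).map (PadicInt.toZMod (p := p)) = f t :=
          congrArg (fun x : GL (Fin n) (ZMod p) => (x : Matrix (Fin n) (Fin n) (ZMod p))) (hτ t)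
        rw [h4, h2]
    have h4 : aeval (h t) f' = 0 := by
      have h5 := Polynomial.map_aeval_eq_aeval_map
        (φ := RingHom.id ℤ) (ψ := (ι.mapMatrix : Matrix (Fin n) (Fin n) ℤ_[p] →+* Matrix (Fin n) (Fin n) ℂ))
        (by ext; simp) f' ((τ t : GL (Fin n) ℤ_[p]) : Matrix (Fin n) (Fin n) ℤ_[p])
      rw [h3, map_zero, Polynomial.map_id] at h5
      exact h5.symm
    have h5 := Polynomial.map_aeval_eq_aeval_map
      (φ := RingHom.id ℤ) (ψ := ((Matrix.toLinAlgEquiv' : Matrix (Fin n) (Fin n) ℂ ≃ₐ[ℂ] _) :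
        Matrix (Fin n) (Fin n) ℂ →+* Module.End ℂ (Fin n → ℂ)))
      (by ext; simp) f' (h t)
    rw [h4, map_zero, Polynomial.map_id] at h5
    exact h5.symm

/-- **the cubes commute** in characteristic `p ≥ 5` -/
theorem cube_comm_p {p : ℕ} (hp : p.Prime) (hp5 : 5 ≤ p) {F : Type*} [Field F] [CharP F p] {D : Type*} [Group D]
    [Finite D] {E : Type*} [AddCommGroup E] [Module F E] [Finite E] (ρ : Representation F D E)
    (hρ : Function.Injective ρ) (hc : ¬ p ∣ Nat.card D) {S T : D}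
    (hS : ∀ v, ρ S (ρ S (ρ S v)) - (2 : F) • ρ S (ρ S v) + (2 : F) • ρ S v - v = 0)
    (hT : ∀ v, ρ T (ρ T (ρ T v)) - (2 : F) • ρ T (ρ T v) + (2 : F) • ρ T v - v = 0) :
    S ^ 3 * T = T * S ^ 3 := by
  have : Fact p.Prime := ⟨hp⟩
  obtain ⟨n, ρ', hρ', hlift⟩ := exists_complex ρ hρ hc
  let f : ℤ[X] := X ^ 3 - 2 * X ^ 2 + 2 * X - 1
  let g : ℤ[X] := X ^ 3 + 2 * X ^ 2 + 2 * X + 1
  have hfg : f * g = X ^ 6 - 1 := by
    show (X ^ 3 - 2 * X ^ 2 + 2 * X - 1 : ℤ[X]) * (X ^ 3 + 2 * X ^ 2 + 2 * X + 1) = X ^ 6 - 1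
    ring
  have key : ∀ R : D, (∀ v, ρ R (ρ R (ρ R v)) - (2 : F) • ρ R (ρ R v) + (2 : F) • ρ R v - v = 0) →
      ∀ v, ρ' R (ρ' R (ρ' R v)) - (2 : ℂ) • ρ' R (ρ' R v) + (2 : ℂ) • ρ' R v - v = 0 := by
    intro R hR
    have h1 : aeval (ρ R) f = 0 := by
      apply LinearMap.ext
      intro v
      have h2 : aeval (ρ R) f = (ρ R) ^ 3 - (2 : F) • (ρ R) ^ 2 + (2 : F) • ρ R - 1 := by
        show aeval (ρ R) (X ^ 3 - 2 * X ^ 2 + 2 * X - 1 : ℤ[X]) = _
        simp only [two_mul, two_smul, _root_.Polynomial.aeval_sub, _root_.map_add, _root_.map_pow, _root_.Polynomial.aeval_X, _root_.map_one]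
      rw [h2]
      exact hR v
    have h6 : R ^ 6 = 1 := by
      apply hρ
      have h3 : aeval (ρ R) (f * g) = 0 := by rw [map_mul, h1, zero_mul]
      rw [hfg, map_sub, map_pow, aeval_X, map_one, sub_eq_zero] at h3
      rw [map_pow, h3, map_one]
    have h7 : ¬ (p : ℤ) ∣ 6 := by
      intro h
      have h8 : p ∣ 6 := by exact_mod_cast h
      have h9 := Nat.le_of_dvd (by norm_num) h8
      interval_cases p
      · exact absurd h8 (by decide)
      · exact absurd hp (by decide)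
    have h4 := hlift R f g (-(2 * X ^ 2 + 4 * X + 3)) (2 * X ^ 2 - 4 * X + 3) 6 6 h7 (by
      show (-(2 * X ^ 2 + 4 * X + 3) : ℤ[X]) * (X ^ 3 - 2 * X ^ 2 + 2 * X - 1) +
        (2 * X ^ 2 - 4 * X + 3) * (X ^ 3 + 2 * X ^ 2 + 2 * X + 1) = _
      rw [show (C 6 : ℤ[X]) = 6 from rfl]
      ring) ⟨1, by rw [hfg, mul_one]⟩ h6 h1
    intro v
    have h5 : aeval (ρ' R) f = (ρ' R) ^ 3 - (2 : ℂ) • (ρ' R) ^ 2 + (2 : ℂ) • ρ' R - 1 := by
      show aeval (ρ' R) (X ^ 3 - 2 * X ^ 2 + 2 * X - 1 : ℤ[X]) = _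
      simp only [two_mul, two_smul, _root_.Polynomial.aeval_sub, _root_.map_add, _root_.map_pow, _root_.Polynomial.aeval_X, _root_.map_one]
    rw [h5] at h4
    exact LinearMap.congr_fun h4 v
  exact cube_comm ρ' hρ' (key S hS) (key T hT)

end Cfsg.Agent.H170.RV
end

-- part: H170/RV/Mod
section
/-!
# The 60 degree theorem for modules over any field of characteristic `p ≥ 5` (helper170)
-/

set_option autoImplicit false
set_option linter.unusedSectionVars false

namespace Cfsg.Agent.H170.RV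

open Module

/-- The cubes commute: `V` a finite-dimensional module over a field of characteristic `p ≥ 5`, `X` a `p'`-group. -/
theorem t60_mod {k : Type*} [Field k] (p : ℕ) [Fact p.Prime] [CharP k p] (h5 : 5 ≤ p) {X : Type*} [Group X] [Finite X]
    (hX : ¬ p ∣ Nat.card X) {V : Type*} [AddCommGroup V] [Module k V] [FiniteDimensional k V] (ρ : X →* Module.End k V)
    (t t' : X) (ht : (ρ t - 1) * (ρ t * ρ t - ρ t + 1) = 0) (ht' : (ρ t' - 1) * (ρ t' * ρ t' - ρ t' + 1) = 0) :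
    ρ (t ^ 3) * ρ t' = ρ t' * ρ (t ^ 3) := by
  classical
  have hpV : ∀ v : V, p • v = 0 := by
    intro v
    rw [← Nat.cast_smul_eq_nsmul k, CharP.cast_eq_zero, zero_smul]
  let _ : Module (ZMod p) V := AddCommGroup.zmodModule (n := p) hpV
  let b := Module.finBasis k V
  -- the finite submodule
  let E : Submodule (ZMod p) V := Submodule.span (ZMod p) (Set.range fun i : X × Fin (finrank k V) => ρ i.1 (b i.2))
  have hfg : Module.Finite (ZMod p) E := Module.Finite.iff_fg.mpr (Submodule.fg_span (Set.finite_range _))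
  have hE : Finite E := Module.finite_of_finite (ZMod p)
  have hinv : ∀ (x : X) (v : V), v ∈ E → ρ x v ∈ E := by
    intro x v hv
    let L : V →ₗ[ZMod p] V := AddMonoidHom.toZModLinearMap p (ρ x).toAddMonoidHom
    have h1 : E ≤ E.comap L := by
      refine Submodule.span_le.mpr ?_
      rintro _ ⟨i, rfl⟩
      refine Submodule.subset_span ⟨(x * i.1, i.2), ?_⟩
      show ρ (x * i.1) (b i.2) = ρ x (ρ i.1 (b i.2))
      rw [map_mul]
      rfl
    exact h1 hv
  -- the group
  let D := (ρ.toHomUnits).range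
  have hD : Finite D := Set.finite_range (ρ.toHomUnits)
  have hDc : ¬ p ∣ Nat.card D := fun h => hX (h.trans (Subgroup.card_range_dvd _))
  have hmemD : ∀ (d : D), ∃ x : X, ρ.toHomUnits x = d := fun d => d.2
  have hDinv : ∀ (d : D) (v : V), v ∈ E → (((d : (Module.End k V)ˣ) : Module.End k V) v) ∈ E := by
    rintro ⟨_, x, rfl⟩ v hv
    exact hinv x v hv
  let σ : Representation (ZMod p) D E :=
    { toFun := fun d => (AddMonoidHom.toZModLinearMap p
        ((((d : (Module.End k V)ˣ) : Module.End k V) : V →ₗ[k] V).toAddMonoidHom)).restrict (hDinv d)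
      map_one' := by
        apply LinearMap.ext
        intro v
        rfl
      map_mul' := fun d d' => by
        apply LinearMap.ext
        intro v
        rfl }
  have hσ : ∀ (d : D) (v : E), ((σ d v : E) : V) = ((d : (Module.End k V)ˣ) : Module.End k V) v := fun _ _ => rfl
  have hspan : ∀ A B : Module.End k V, (∀ v ∈ E, A v = B v) → A = B := by
    intro A B hAB
    refine b.ext fun i => hAB _ ?_
    refine Submodule.subset_span ⟨(1, i), ?_⟩
    show ρ 1 (b i) = b i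
    rw [map_one]
    rfl
  have hσi : Function.Injective σ := by
    intro a c hac
    apply Subtype.ext
    apply Units.ext
    refine hspan _ _ fun v hv => ?_
    exact congrArg Subtype.val (LinearMap.congr_fun hac ⟨v, hv⟩)
  let S : D := ⟨ρ.toHomUnits t, ⟨t, rfl⟩⟩
  let T : D := ⟨ρ.toHomUnits t', ⟨t', rfl⟩⟩
  have hpoly : ∀ x : X, (ρ x - 1) * (ρ x * ρ x - ρ x + 1) = 0 → ∀ v : E,
      σ ⟨ρ.toHomUnits x, ⟨x, rfl⟩⟩ (σ ⟨ρ.toHomUnits x, ⟨x, rfl⟩⟩ (σ ⟨ρ.toHomUnits x, ⟨x, rfl⟩⟩ v)) -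
        (2 : ZMod p) • σ ⟨ρ.toHomUnits x, ⟨x, rfl⟩⟩ (σ ⟨ρ.toHomUnits x, ⟨x, rfl⟩⟩ v) +
        (2 : ZMod p) • σ ⟨ρ.toHomUnits x, ⟨x, rfl⟩⟩ v - v = 0 := by
    intro x hx v
    apply Subtype.ext
    have h1 := LinearMap.congr_fun hx (v : V)
    have h2 : ((ρ x - 1) * (ρ x * ρ x - ρ x + 1)) (v : V) =
        ρ x (ρ x (ρ x (v : V))) - (ρ x (ρ x (v : V)) + ρ x (ρ x (v : V))) + (ρ x (v : V) + ρ x (v : V)) - (v : V) := by
      show ρ x (ρ x (ρ x (v : V)) - ρ x (v : V) + (v : V)) - (ρ x (ρ x (v : V)) - ρ x (v : V) + (v : V)) = _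
      rw [map_add, map_sub]
      abel
    rw [h2] at h1
    rw [two_smul, two_smul]
    exact h1
  have h1 := cube_comm_p (Fact.out : p.Prime) h5 σ hσi hDc (S := S) (T := T) (hpoly t ht) (hpoly t' ht')
  have h2 : ρ.toHomUnits t ^ 3 * ρ.toHomUnits t' = ρ.toHomUnits t' * ρ.toHomUnits t ^ 3 := congrArg Subtype.val h1
  have h3 := congrArg (fun u : (Module.End k V)ˣ => (u : Module.End k V)) h2
  rw [map_pow]
  exact h3

end Cfsg.Agent.H170.RV
end
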